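import Cfsg.Agent.H559.D2.Grp
import Cfsg.Agent.H559.D2.Num
import Cfsg.Agent.H826.RgD.Form
import Cfsg.Agent.H370.Rg.Size
import Cfsg.Agent.S0817
import Cfsg.Agent.H934.OutB

/-!
# S3691, residual case F-D+2: the frame `D2` (helper559)

* `nd` : the arithmetic data for `K = preE e Y`
* `d2` : `ResP hI X P` and `Fac T X Y` give `D2 Q p f m (preE (eP hG eT) Y)`, given `|Out T|` and the size
* `out_dvd`, `size` : these for `T ≃* PΩ⁺(2m, q)`; `exists_ts` : the field `plus`; `d2_plus`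
-/

set_option autoImplicit false
set_option linter.unusedSectionVars false

namespace Cfsg.Agent.H559.D2

open QuadraticMap Module Cfsg
open Cfsg.Agent.LieClassical.OrthCore Cfsg.Agent.LieClassical.OrthTrans
open Cfsg.Agent.ClassicalGeometry.OrthSemi Cfsg.Agent.H454.Reg Cfsg.Agent.H449.Reg
open Cfsg.Agent.H826.Rg (pp mem_pp finrank_pp preE mem_preE preE_le_E)
open Cfsg.Agent.H964.Rg (ResP)
open Cfsg.Agent.H386.Rg (SzD)

universe u v

section abs

variable {G : Type*} [Group G] {T : Subgroup G} [T.Normal]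
variable {F V : Type*} [Field F] [Finite F] [AddCommGroup V] [Module F V] [FiniteDimensional F V] {Q : QuadraticForm F V}
variable {e : T ≃* (↥(E Q) ⧸ Subgroup.center ↥(E Q))} {X Y : Subgroup G}

/-- the arithmetic data -/
theorem nd [Finite G] (hG : Good Q) (hf : Fac T X Y) {p f m : ℕ} (hp : p.Prime) (hf1 : 1 ≤ f) (hF : Nat.card F = p ^ f)
    (hV : finrank F V = 2 * m) (hm : 5 ≤ m) (hplus : ∃ W : Submodule F V, (∀ w ∈ W, Q w = 0) ∧ finrank F W = m)
    {P : Submodule F V} (hP : finrank F P = 2) (han : ∀ x ∈ P, Q x = 0 → x = 0)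
    (hfix : ∀ g ∈ preE e X, ∀ x ∈ P, g x ∈ P) (hst : ∀ g ∈ E Q, (∀ x ∈ P, g x = x) → g ∈ preE e X)
    (hout : Nat.card (Cfsg.Out T) ∣ (if p = 2 then 2 else 8) * f) :
    ∃ c s z : ℕ, ND p f m c (Nat.card (preE e Y)) s z := by
  obtain ⟨W, hW, hWd⟩ := hplus
  obtain ⟨c, s, hc, hs, heq⟩ := main hG hf hW hWd hV (by omega) hP han hfix hst
  rw [hF] at hc heq
  refine ⟨c, s, _, hp, hf1, hm, hc, hs.trans hout, z_dvd hG, fun hp2 => z_two hG ?_, heq⟩
  -- characteristic two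
  subst hp2
  have : Fintype F := Fintype.ofFinite F
  have h1 : ((2 ^ f : ℕ) : F) = 0 := by
    rw [← hF, Nat.card_eq_fintype_card]
    exact FiniteField.cast_card_eq_zero F
  push_cast at h1
  exact pow_eq_zero_iff (by omega) |>.1 h1

end abs

section

variable {ι : Type} [Fintype ι] [DecidableEq ι] {F : Type v} [Field F] [Finite F] {Q : QuadraticForm F (ι → F)}
  {G : Type u} [Group G] [Finite G] {T : Subgroup G} [T.Normal] {hG : Good Q} {eT : T ≃* POmega F (⇑Q)} {X Y : Subgroup G}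
  {hI : Ind (eP hG eT)} {P : Submodule F (ι → F)}

theorem fix_of_resP (hR : ResP hI X P) {g : (ι → F) ≃ₗ[F] (ι → F)} (hg : g ∈ preE (eP hG eT) X) :
    ∀ x ∈ P, g x ∈ P := by
  obtain ⟨hgE, hgX⟩ := hg
  have h1 := hR.fix _ hgX
  rw [act_T hG hI (x := ⟨g, hgE⟩) ((eP hG eT).apply_symm_apply _)] at h1
  intro x hx
  have h2 : g x ∈ P.map (g : (ι → F) →ₗ[F] (ι → F)) := ⟨x, hx, rfl⟩
  rwa [h1] at h2

/-- **the frame `D2`** -/
theorem d2 (hf : Fac T X Y) (hR : ResP hI X P) {p f m : ℕ} (hp : p.Prime) (hf1 : 1 ≤ f) (hF : Nat.card F = p ^ f)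
    (hι : Fintype.card ι = 2 * m) (hm : 5 ≤ m) (hplus : ∃ W : Submodule F (ι → F), (∀ w ∈ W, Q w = 0) ∧ finrank F W = m)
    (hout : Nat.card (Cfsg.Out T) ∣ (if p = 2 then 2 else 8) * f) (hS : SzD m (p ^ f)) :
    H386.Rg.D2 Q p f m (preE (eP hG eT) Y) := by
  obtain ⟨c, s, z, h⟩ := nd hG hf hp hf1 hF (by rw [Module.finrank_fintype_fun_eq_card, hι]) hm hplus hR.rank hR.aniso
    (fun g hg => fix_of_resP hR hg) (fun g hg hgP => H826.RgD.hst (by omega) hR hg hgP) hout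
  exact H826.RgD.d2_of hf hR hp hf1 hF hι hm hS hplus h.card_ge h.card_p h.card_dvd h.card_dvd2 h.rdvd

end

/-- the order of the outer automorphism group -/
theorem out_dvd {F : Type*} [Field F] [Fintype F] {S : Type*} [Group S] [Finite S] [IsSimpleGroup S]
    (hna : ¬ IsMulCommutative S) {p f m : ℕ} (hp : p.Prime) (hf : 1 ≤ f) (hF : Nat.card F = p ^ f) (hm : 5 ≤ m)
    (e : S ≃* POmega F (quadFormPlus m F)) : Nat.card (Cfsg.Out S) ∣ (if p = 2 then 2 else 8) * f := by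
  have := Fact.mk hp
  have h1 := S0817.result (F := F) p f hf (by rw [← Nat.card_eq_fintype_card, hF]) m (by omega)
  rw [if_neg (by omega : ¬ m = 4), one_mul, ← Nat.card_congr e.toEquiv, ← Nat.card_congr (MulAut.congr e).toEquiv] at h1
  rw [H934.OutB.card_out_of_aut hna h1]
  refine Nat.mul_dvd_mul_right ?_ f
  split_ifs <;> decide

/-- the size -/
theorem size {F : Type} [Field F] [Fintype F] {S : Type u} [Group S] {p f m : ℕ} (hF : Nat.card F = p ^ f) (hm : 5 ≤ m)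
    (e : S ≃* POmega F (quadFormPlus m F)) (hl : 3 * Nat.factorial 29 < Nat.card S) : SzD m (p ^ f) := by
  have hn : H436.IsNamed (.oplus m (Fintype.card F)) S := by
    refine .mk' ⟨F, inferInstance, inferInstance, rfl, ⟨e⟩⟩ ⟨by omega, Fintype.isPrimePow_card_of_field⟩ ?_
    rw [Nat.card_congr e.toEquiv]
    exact H436.oplus_eq (by omega)
  have h := H370.Rg.oplus_ge hl hn
  rw [← Nat.card_eq_fintype_card, hF] at h
  exact ⟨h.2.1, h.2.2⟩

/-- a maximal totally singular subspace of the standard form of plus type -/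
theorem exists_ts {F : Type*} [Field F] {m : ℕ} {Q : QuadraticForm F (Fin m ⊕ Fin m → F)} (hQ : ⇑Q = quadFormPlus m F) :
    ∃ W : Submodule F (Fin m ⊕ Fin m → F), (∀ w ∈ W, Q w = 0) ∧ finrank F W = m := by
  let φ : (Fin m → F) →ₗ[F] (Fin m ⊕ Fin m → F) :=
    { toFun := fun v => Sum.elim v 0
      map_add' := fun a b => by ext (i | i) <;> simp
      map_smul' := fun a b => by ext (i | i) <;> simp }
  have hφ : Function.Injective φ := fun a b hab => by
    ext i
    exact congrFun hab (Sum.inl i)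
  refine ⟨LinearMap.range φ, ?_, ?_⟩
  · rintro _ ⟨v, rfl⟩
    rw [hQ]
    show ∑ i : Fin m, (Sum.elim v 0 : Fin m ⊕ Fin m → F) (Sum.inl i) * (Sum.elim v 0 : Fin m ⊕ Fin m → F) (Sum.inr i) = 0
    refine Finset.sum_eq_zero fun i _ => ?_
    rw [Sum.elim_inr, Pi.zero_apply, mul_zero]
  · rw [LinearMap.finrank_range_of_inj hφ, Module.finrank_fin_fun]

/-- **the frame `D2` for `PΩ⁺(2m, q)`** -/
theorem d2_plus {ι F : Type} [Fintype ι] [DecidableEq ι] [Field F] [Fintype F] {Q : QuadraticForm F (ι → F)}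
    {G : Type u} [Group G] [Finite G] {T : Subgroup G} [T.Normal] {hG : Good Q} {eT : T ≃* POmega F (⇑Q)} {X Y : Subgroup G}
    {hI : Ind (eP hG eT)} {P : Submodule F (ι → F)} (hf : Fac T X Y) (hR : ResP hI X P) {p f m : ℕ} (hp : p.Prime)
    (hf1 : 1 ≤ f) (hF : Nat.card F = p ^ f) (hι : Fintype.card ι = 2 * m) (hm : 5 ≤ m)
    (hplus : ∃ W : Submodule F (ι → F), (∀ w ∈ W, Q w = 0) ∧ finrank F W = m)
    (e : T ≃* POmega F (quadFormPlus m F)) : H386.Rg.D2 Q p f m (preE (eP hG eT) Y) := by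
  have := hf.simple
  exact d2 hf hR hp hf1 hF hι hm hplus (out_dvd hf.nonab hp hf1 hF hm e) (size hF hm e hf.large)

end Cfsg.Agent.H559.D2
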