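import Cfsg.Agent.H826.Rg.Lin
import Cfsg.Agent.H386.Rg.D2

/-!
# S3691, residual case F-D+2: counting (helper559)

`V` nondegenerate quadratic space of plus type, `dim V = 2m`, over the field with `q` elements (all characteristics):
* `card_norm` : `(q ^ m - 1) q ^ (m - 1)` vectors of norm `c ≠ 0`
* `card_second` : for `Q u ≠ 0` there are `(q ^ (m - 1) - 1) q ^ (m - 1)` vectors `w` with `(u, w) = τ`, `Q w = μ`, if `(Q u, τ, μ)` is
  the Gram data of an anisotropic plane
* `card_pairs` : the number of pairs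
* `card_conic`, `card_two`, `card_plane` : in an anisotropic plane: `q + 1` vectors of given norm, `2 (q + 1)` pairs with given Gram data
-/

set_option autoImplicit false
set_option linter.unusedSectionVars false

namespace Cfsg.Agent.H559.D2

open QuadraticMap Module
open Cfsg.Agent.LieClassical.OrthCore Cfsg.Agent.LieClassical.OrthTrans
open Cfsg.Agent.H826.Rg (pp mem_pp finrank_pp)

/-! ### abstract counting -/

theorem card_fibre {W X : Type*} [AddCommGroup W] [AddCommGroup X] (φ : W →+ X)
    (hφ : Function.Surjective φ) (x : X) : Nat.card {w : W // φ w = x} * Nat.card X = Nat.card W := by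
  obtain ⟨w0, hw0⟩ := hφ x
  have e : {w : W // φ w = x} ≃ φ.ker :=
    { toFun := fun w => ⟨w.1 - w0, by rw [AddMonoidHom.mem_ker, map_sub, w.2, hw0, sub_self]⟩
      invFun := fun k => ⟨k.1 + w0, by rw [map_add, AddMonoidHom.mem_ker.1 k.2, hw0, zero_add]⟩
      left_inv := fun w => Subtype.ext (sub_add_cancel _ _)
      right_inv := fun k => Subtype.ext (add_sub_cancel_right _ _) }
  rw [Nat.card_congr e, AddSubgroup.card_eq_card_quotient_mul_card_addSubgroup φ.ker,
    Nat.card_congr (QuotientAddGroup.quotientKerEquivOfSurjective φ hφ).toEquiv, mul_comm]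

theorem card_coset {V : Type*} [AddCommGroup V] [Finite V] (W : AddSubgroup V) (P : V → Prop) (B : Set V) (k : ℕ)
    (h0 : ∀ v, v ∉ B → ∀ w ∈ W, ¬ P (v + w)) (h1 : ∀ v ∈ B, Nat.card {w : W // P (v + w)} = k) :
    Nat.card {v // P v} * Nat.card W = Nat.card B * k := by
  classical
  have := Fintype.ofFinite V
  have e : {v // P v} × W ≃ {x : V × W // P (x.1 + x.2)} :=
    { toFun := fun x => ⟨(x.1.1 - x.2, x.2), by show P (x.1.1 - x.2 + x.2); rw [sub_add_cancel]; exact x.1.2⟩
      invFun := fun x => (⟨x.1.1 + x.1.2, x.2⟩, x.1.2)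
      left_inv := fun x => Prod.ext (Subtype.ext (sub_add_cancel _ _)) rfl
      right_inv := fun x => Subtype.ext (Prod.ext (add_sub_cancel_right _ _) rfl) }
  rw [← Nat.card_prod, Nat.card_congr (e.trans (Equiv.subtypeProdEquivSigmaSubtype fun (v : V) (w : W) => P (v + w))),
    Nat.card_sigma]
  have h2 : ∀ v : V, Nat.card {w : W // P (v + w)} = if v ∈ B then k else 0 := by
    intro v
    split_ifs with hv
    · exact h1 v hv
    · have : IsEmpty {w : W // P (v + w)} := ⟨fun w => h0 v hv w.1 w.1.2 w.2⟩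
      exact Nat.card_of_isEmpty
  rw [Finset.sum_congr rfl fun v _ => h2 v, ← Finset.sum_filter, Finset.sum_const, smul_eq_mul]
  congr 1
  rw [Nat.card_eq_fintype_card, Fintype.card_subtype]

section

variable {F V : Type*} [Field F] [Finite F] [AddCommGroup V] [Module F V] [FiniteDimensional F V] {Q : QuadraticForm F V} {m : ℕ}

theorem card_submodule (W : Submodule F V) : Nat.card W = Nat.card F ^ finrank F W := by
  rw [Module.natCard_eq_pow_finrank (K := F)]

theorem q_gt : 1 < Nat.card F := Finite.one_lt_card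

theorem Q_add_sing {W : Submodule F V} (hW : ∀ w ∈ W, Q w = 0) (v : V) (w : W) : Q (v + w) = Q v + polar Q v w := by
  rw [Q_add, hW w w.2, add_zero]

theorem mem_of_perp (hQ : Nondeg Q) {W : Submodule F V} (hW : ∀ w ∈ W, Q w = 0) (hWd : finrank F W = m)
    (hV : finrank F V = 2 * m) {x : V} (hx : ∀ w ∈ W, polar Q x w = 0) : x ∈ W := by
  have h1 : W ≤ pp Q W := fun x hx w hw => by
    have h2 := hW _ (W.add_mem hw hx)
    rw [Q_add, hW w hw, hW x hx, zero_add, zero_add] at h2
    exact h2
  have h2 : W = pp Q W := Submodule.eq_of_le_of_finrank_eq h1 (by rw [finrank_pp hQ, hV, hWd]; omega)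
  rw [h2, mem_pp]
  intro w hw
  rw [polar_comm]
  exact hx w hw

/-- a linear functional on a subspace which is not zero -/
theorem card_functional {W : Submodule F V} {k : ℕ} (hWd : finrank F W = k + 1) {x : V} (hx : ∃ w ∈ W, polar Q x w ≠ 0) (c : F) :
    Nat.card {w : W // polar Q x w = c} = Nat.card F ^ k := by
  have hsurj : Function.Surjective (((polarBilin Q x).comp W.subtype).toAddMonoidHom) := by
    obtain ⟨w, hw, h⟩ := hx
    intro d
    refine ⟨(d * (polar Q x w)⁻¹) • ⟨w, hw⟩, ?_⟩
    show polar Q x ((d * (polar Q x w)⁻¹) • w) = d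
    rw [polar_smul_right, smul_eq_mul, mul_assoc, inv_mul_cancel₀ h, mul_one]
  have h1 := card_fibre _ hsurj c
  rw [card_submodule, hWd, pow_succ] at h1
  exact Nat.eq_of_mul_eq_mul_right (Nat.card_pos (α := F)) h1

theorem card_norm (hQ : Nondeg Q) {W : Submodule F V} (hW : ∀ w ∈ W, Q w = 0) (hWd : finrank F W = m)
    (hV : finrank F V = 2 * m) (hm : 1 ≤ m) {c : F} (hc : c ≠ 0) :
    Nat.card {v : V // Q v = c} = (Nat.card F ^ m - 1) * Nat.card F ^ (m - 1) := by
  have : Finite V := Module.finite_of_finite F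
  obtain ⟨k, rfl⟩ : ∃ k, m = k + 1 := ⟨m - 1, by omega⟩
  have h := card_coset W.toAddSubgroup (fun v => Q v = c) {v | v ∉ W} (Nat.card F ^ k) (fun v hv w hw h => by
    have h1 : v ∈ W := by simpa using hv
    exact hc (by rw [← h]; exact (hW _ (W.add_mem h1 hw)).symm ▸ rfl)) (fun v hv => by
    have h1 : ∃ w ∈ W, polar Q v w ≠ 0 := by
      by_contra hcon
      push Not at hcon
      exact hv (mem_of_perp hQ hW hWd hV hcon)
    rw [← card_functional hWd h1 (c - Q v)]
    refine Nat.card_congr (Equiv.subtypeEquivRight fun w => ?_)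
    show Q (v + w) = c ↔ _
    rw [Q_add_sing hW v w]
    constructor
    · intro h; rw [← h]; ring
    · intro h; rw [h]; ring)
  have h2 : Nat.card {v | v ∉ W} = Nat.card F ^ (2 * (k + 1)) - Nat.card F ^ (k + 1) := by
    have h3 : Nat.card {v | v ∉ W} = Nat.card V - Nat.card W := by
      have h4 := Set.ncard_add_ncard_compl (W : Set V)
      have h5 : {v | v ∉ W} = (W : Set V)ᶜ := rfl
      rw [h5, Nat.card_coe_set_eq]
      rw [← Nat.card_coe_set_eq] at h4
      have h6 : Nat.card ((W : Set V) : Type _) = Nat.card W := rfl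
      rw [h6] at h4
      omega
    rw [h3, Module.natCard_eq_pow_finrank (K := F), card_submodule, hV, hWd]
  rw [h2] at h
  have h3 : Nat.card W.toAddSubgroup = Nat.card F ^ (k + 1) := by
    rw [← hWd, ← card_submodule]
    rfl
  rw [h3] at h
  rw [Nat.add_sub_cancel]
  have hq : 0 < Nat.card F ^ (k + 1) := pow_pos (by have := q_gt (F := F); omega) _
  apply Nat.eq_of_mul_eq_mul_right hq
  rw [h, two_mul, pow_add, ← Nat.sub_one_mul]
  ring

theorem card_second (hQ : Nondeg Q) {W : Submodule F V} (hW : ∀ w ∈ W, Q w = 0) (hWd : finrank F W = m)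
    (hV : finrank F V = 2 * m) (hm : 2 ≤ m) {u : V} (hu : Q u ≠ 0) {τ μ : F} (ha : ∀ a : F, a * a * Q u - a * τ + μ ≠ 0) :
    Nat.card {w : V // polar Q u w = τ ∧ Q w = μ} = (Nat.card F ^ (m - 1) - 1) * Nat.card F ^ (m - 1) := by
  have : Finite V := Module.finite_of_finite F
  obtain ⟨k, rfl⟩ : ∃ k, m = k + 2 := ⟨m - 2, by omega⟩
  have huW : u ∉ W := fun h => hu (hW u h)
  set B : Submodule F V := W ⊔ F ∙ u with hB
  have hBd : finrank F B = k + 3 := by
    have h1 : finrank F (W ⊔ F ∙ u : Submodule F V) + finrank F (W ⊓ F ∙ u : Submodule F V) = finrank F W + finrank F (F ∙ u) :=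
      Submodule.finrank_sup_add_finrank_inf_eq _ _
    have h2 : W ⊓ F ∙ u = ⊥ := by
      rw [eq_bot_iff]
      rintro x ⟨hx, hx'⟩
      obtain ⟨a, rfl⟩ := Submodule.mem_span_singleton.1 hx'
      rcases eq_or_ne a 0 with rfl | h0
      · simp
      · exact absurd ((W.smul_mem_iff h0).1 hx) huW
    have h3 : finrank F (F ∙ u) = 1 := finrank_span_singleton (by rintro rfl; exact huW W.zero_mem)
    rw [h2, finrank_bot, h3, hWd] at h1
    rw [hB]; omega
  have h := card_coset W.toAddSubgroup (fun w => polar Q u w = τ ∧ Q w = μ) {v | v ∉ B} (Nat.card F ^ k)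
    (fun v hv w hw h => by
      have h1 : v ∈ B := by simpa using hv
      rw [hB, Submodule.mem_sup] at h1
      obtain ⟨w1, hw1, x, hx, rfl⟩ := h1
      obtain ⟨a, rfl⟩ := Submodule.mem_span_singleton.1 hx
      obtain ⟨h2, h3⟩ := h
      have h4 : w1 + a • u + w = a • u + (w1 + w) := by abel
      have h5 : w1 + w ∈ W := W.add_mem hw1 hw
      rw [h4] at h2 h3
      rw [polar_add_right, polar_smul_right, polar_self', smul_eq_mul] at h2
      rw [Q_add, hW _ h5, QuadraticMap.map_smul, smul_eq_mul, polar_smul_left, smul_eq_mul] at h3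
      apply ha a
      rw [← h2, ← h3]; ring) (fun v hv => by
    have hsurj : Function.Surjective ((LinearMap.prod (polarBilin Q u) (polarBilin Q v)).comp W.subtype) := by
      rw [← LinearMap.range_eq_top]
      by_contra hne
      obtain ⟨f, hf0, hf⟩ := Submodule.exists_le_ker_of_lt_top _ (lt_top_iff_ne_top.2 hne)
      set a := f (1, 0) with hadef
      set b := f (0, 1) with hbdef
      have hfab : ∀ s t : F, f (s, t) = s * a + t * b := by
        intro s t
        have : ((s, t) : F × F) = s • (1, 0) + t • (0, 1) := by simp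
        rw [this, map_add, map_smul, map_smul, smul_eq_mul, smul_eq_mul]
      have h1 : a • u + b • v ∈ W := by
        refine mem_of_perp hQ hW hWd hV fun w hw => ?_
        have h2 : f (polar Q u w, polar Q v w) = 0 := hf ⟨⟨w, hw⟩, rfl⟩
        rw [hfab] at h2
        rw [polar_add_left, polar_smul_left, polar_smul_left, smul_eq_mul, smul_eq_mul, ← h2]
        ring
      rcases eq_or_ne b 0 with hb | hb
      · rw [hb, zero_smul, add_zero] at h1
        rcases eq_or_ne a 0 with ha0 | ha0
        · apply hf0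
          ext1
          · ext
            show f (1, 0) = 0
            exact ha0
          · ext
            show f (0, 1) = 0
            exact hb
        · exact huW ((W.smul_mem_iff ha0).1 h1)
      · apply hv
        have h2 : v = b⁻¹ • (a • u + b • v) + (-(b⁻¹ * a)) • u := by
          rw [smul_add, smul_smul, smul_smul, inv_mul_cancel₀ hb, one_smul, neg_smul]
          abel
        rw [h2]
        exact B.add_mem (Submodule.mem_sup_left (W.smul_mem _ h1))
          (Submodule.mem_sup_right (Submodule.smul_mem _ _ (Submodule.mem_span_singleton_self u)))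
    have h1 := card_fibre ((LinearMap.prod (polarBilin Q u) (polarBilin Q v)).comp W.subtype).toAddMonoidHom hsurj
      (τ - polar Q u v, μ - Q v)
    rw [Nat.card_prod, card_submodule, hWd, pow_succ, pow_succ, mul_assoc] at h1
    have h2 := Nat.eq_of_mul_eq_mul_right (Nat.mul_pos (Nat.card_pos (α := F)) (Nat.card_pos (α := F))) h1
    rw [← h2]
    refine Nat.card_congr (Equiv.subtypeEquivRight fun w => ?_)
    show (polar Q u (v + w) = τ ∧ Q (v + w) = μ) ↔ ((polar Q u w, polar Q v w) : F × F) = (τ - polar Q u v, μ - Q v)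
    rw [polar_add_right, Q_add_sing hW v w, Prod.mk.injEq]
    constructor
    · rintro ⟨h3, h4⟩
      exact ⟨by rw [← h3]; ring, by rw [← h4]; ring⟩
    · rintro ⟨h3, h4⟩
      exact ⟨by rw [h3]; ring, by rw [h4]; ring⟩)
  have h2 : Nat.card {v | v ∉ B} = Nat.card F ^ (2 * (k + 2)) - Nat.card F ^ (k + 3) := by
    have h3 : Nat.card {v | v ∉ B} = Nat.card V - Nat.card B := by
      have h4 := Set.ncard_add_ncard_compl (B : Set V)
      have h5 : {v | v ∉ B} = (B : Set V)ᶜ := rfl
      rw [h5, Nat.card_coe_set_eq]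
      rw [← Nat.card_coe_set_eq] at h4
      have h6 : Nat.card ((B : Set V) : Type _) = Nat.card B := rfl
      rw [h6] at h4
      omega
    rw [h3, Module.natCard_eq_pow_finrank (K := F), card_submodule, hV, hBd]
  rw [h2] at h
  have h3 : Nat.card W.toAddSubgroup = Nat.card F ^ (k + 2) := by
    rw [← hWd, ← card_submodule]
    rfl
  rw [h3] at h
  have h4 : k + 2 - 1 = k + 1 := rfl
  rw [h4]
  have hq : 0 < Nat.card F ^ (k + 2) := pow_pos (by have := q_gt (F := F); omega) _
  apply Nat.eq_of_mul_eq_mul_right hq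
  rw [h]
  have h5 : Nat.card F ^ (2 * (k + 2)) - Nat.card F ^ (k + 3) = (Nat.card F ^ (k + 1) - 1) * Nat.card F ^ (k + 3) := by
    rw [Nat.sub_one_mul, ← pow_add]
    congr 2
    omega
  rw [h5]
  ring

/-- **the number of pairs with given Gram data** -/
theorem card_pairs (hQ : Nondeg Q) {W : Submodule F V} (hW : ∀ w ∈ W, Q w = 0) (hWd : finrank F W = m)
    (hV : finrank F V = 2 * m) (hm : 2 ≤ m) {c τ μ : F} (hc : c ≠ 0) (ha : ∀ a : F, a * a * c - a * τ + μ ≠ 0) :
    Nat.card {x : V × V // Q x.1 = c ∧ polar Q x.1 x.2 = τ ∧ Q x.2 = μ} =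
      ((Nat.card F ^ m - 1) * Nat.card F ^ (m - 1)) * ((Nat.card F ^ (m - 1) - 1) * Nat.card F ^ (m - 1)) := by
  classical
  have : Finite V := Module.finite_of_finite F
  have e : {x : V × V // Q x.1 = c ∧ polar Q x.1 x.2 = τ ∧ Q x.2 = μ} ≃
      Σ u : {u : V // Q u = c}, {w : V // polar Q u w = τ ∧ Q w = μ} :=
    { toFun := fun x => ⟨⟨x.1.1, x.2.1⟩, x.1.2, x.2.2⟩
      invFun := fun x => ⟨(x.1.1, x.2.1), x.1.2, x.2.2⟩
      left_inv := fun x => rfl
      right_inv := fun x => rfl }
  have := Fintype.ofFinite {u : V // Q u = c}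
  rw [Nat.card_congr e, Nat.card_sigma, Finset.sum_congr rfl fun u _ => card_second hQ hW hWd hV hm
    (by rw [u.2]; exact hc) (by rw [u.2]; exact ha), Finset.sum_const, smul_eq_mul, Finset.card_univ, ← Nat.card_eq_fintype_card,
    card_norm hQ hW hWd hV (by omega) hc]

end

end Cfsg.Agent.H559.D2
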