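import Cfsg.Agent.H559.D2.Plane
import Cfsg.Agent.H826.Rg.Gam

/-!
# S3691, residual case F-D+2: orders (helper559)

* `trans_pairs` : `E Q` is transitive on the pairs with given Gram data spanning an anisotropic plane
* `card_orb` : orbit counting on pairs
* `card_preE` : `|preE e X| = |X ∩ T| z`, `z = |Z(E Q)|`; `z_dvd`, `z_two`
* `main` : `c |preE e Y| e = N z` with `c ∣ 2 (q + 1)`, `e ∣ |Out T|`, `N` the number of pairs
-/

set_option autoImplicit false
set_option linter.unusedSectionVars false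

namespace Cfsg.Agent.H559.D2

open QuadraticMap Module
open Cfsg.Agent.LieClassical.OrthCore Cfsg.Agent.LieClassical.OrthTrans
open Cfsg.Agent.ClassicalGeometry.OrthSemi Cfsg.Agent.H454.Reg Cfsg.Agent.H449.Reg
open Cfsg.Agent.H826.Rg (pp mem_pp finrank_pp preE mem_preE preE_le_E)
open Cfsg.Agent.ClassicalGeometry (WittQuad.extend_family)

section trans

variable {F V : Type*} [Field F] [Finite F] [AddCommGroup V] [Module F V] [FiniteDimensional F V] {Q : QuadraticForm F V}
  {P : Submodule F V}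

/-- the perp of an anisotropic plane contains vectors of every norm -/
theorem exists_norm_perp (hQ : Nondeg Q) (hd : 5 ≤ finrank F V) (hP : finrank F P = 2) (han : ∀ x ∈ P, Q x = 0 → x = 0) (c : F) :
    ∃ v, Q v = c ∧ ∀ x ∈ P, polar Q v x = 0 := by
  have hc : P ⊔ pp Q P = ⊤ := by
    apply Submodule.eq_top_of_finrank_eq
    have h1 := Submodule.finrank_sup_add_finrank_inf_eq P (pp Q P)
    have h2 : P ⊓ pp Q P = ⊥ := by
      rw [eq_bot_iff]
      rintro x ⟨hx, hx'⟩
      by_contra h0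
      obtain ⟨y, hy, hyn⟩ := exists_polar_ne (by omega) han hx (by simpa using h0)
      apply hyn
      rw [polar_comm]
      exact mem_pp.1 hx' y hy
    rw [h2, finrank_bot, finrank_pp hQ, hP] at h1
    omega
  let b := Module.finBasisOfFinrankEq F P hP
  obtain ⟨x, hx0, hx, hxu⟩ := Cfsg.Agent.LieClassical.OrthFinite.exists_sing_perp (Q := Q) (fun i => (b i : V)) (by omega)
  have hxP : ∀ y ∈ P, polar Q y x = 0 := by
    intro y hy
    have h2 : P ≤ LinearMap.ker ((polarBilin Q).flip x) := by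
      intro y hy
      have h3 : (⟨y, hy⟩ : P) = ∑ i, b.repr ⟨y, hy⟩ i • b i := (b.sum_repr _).symm
      have h4 : y = ∑ i, b.repr ⟨y, hy⟩ i • (b i : V) := by
        refine (congrArg (Subtype.val : P → V) h3).trans ?_
        rw [Submodule.coe_sum]
        rfl
      rw [h4]
      exact Submodule.sum_mem _ fun i _ => Submodule.smul_mem _ _ (hxu i)
    exact h2 hy
  obtain ⟨z, hz⟩ := hQ.exists_polar_ne hx0
  obtain ⟨y0, hy0, y, hy, rfl⟩ := Submodule.mem_sup.1 (show z ∈ P ⊔ pp Q P by rw [hc]; trivial)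
  rw [polar_add_right, polar_comm Q x y0, hxP y0 hy0, zero_add] at hz
  refine ⟨y + ((c - Q y) * (polar Q x y)⁻¹) • x, ?_, fun w hw => ?_⟩
  · rw [Q_add, QuadraticMap.map_smul, hx, smul_zero, polar_smul_right, smul_eq_mul, polar_comm Q y x, mul_assoc, inv_mul_cancel₀ hz]
    ring
  · rw [polar_add_left, polar_smul_left, polar_comm Q y w, mem_pp.1 hy w hw, polar_comm Q x w, hxP w hw, smul_zero, add_zero]

/-- every isometry is an element of `E Q` up to an isometry fixing the plane -/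
theorem exists_adjust (hG : Good Q) (hP : finrank F P = 2) (han : ∀ x ∈ P, Q x = 0 → x = 0) {g : V ≃ₗ[F] V} (hg : g ∈ O Q) :
    ∃ s ∈ O Q, (∀ x ∈ P, s x = x) ∧ s * g ∈ E Q := by
  rw [O_eq_closure hG.nondeg] at hg
  induction hg using Subgroup.closure_induction with
  | mem g hg =>
    rcases hg with ⟨v, hv, rfl⟩ | ⟨u, w, hu, hw, rfl⟩
    · obtain ⟨v', h1, h2⟩ := exists_norm_perp hG.nondeg hG.dim hP han (Q v)
      have hv' : Q v' ≠ 0 := by rwa [h1]
      refine ⟨refl Q v' hv', refl_mem_O hv', fun x hx => ?_, hG.refl_mul_refl_mem hv hv' h1.symm⟩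
      rw [refl_apply, h2 x hx, mul_zero, zero_smul, sub_zero]
    · exact ⟨1, (O Q).one_mem, fun x _ => rfl, by rw [one_mul]; exact siegel_mem_E hu hw⟩
  | one => exact ⟨1, (O Q).one_mem, fun x _ => rfl, by rw [one_mul]; exact (E Q).one_mem⟩
  | mul g₁ g₂ _ _ h1 h2 =>
    obtain ⟨s1, hs1, hf1, he1⟩ := h1
    obtain ⟨s2, hs2, hf2, he2⟩ := h2
    refine ⟨s2 * s1, (O Q).mul_mem hs2 hs1, fun x hx => ?_, ?_⟩
    · show s2 (s1 x) = x
      rw [hf1 x hx, hf2 x hx]
    · have h3 : s2 * s1 * (g₁ * g₂) = (s2 * (s1 * g₁) * s2⁻¹) * (s2 * g₂) := by group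
      rw [h3]
      exact (E Q).mul_mem (conj_mem_E hs2 he1) he2
  | inv g _ h =>
    obtain ⟨s, hs, hf, he⟩ := h
    refine ⟨s⁻¹, (O Q).inv_mem hs, fun x hx => ?_, ?_⟩
    · show s.symm x = x
      rw [LinearEquiv.symm_apply_eq, hf x hx]
    · have h3 : s⁻¹ * g⁻¹ = s⁻¹ * (s * g)⁻¹ * s⁻¹⁻¹ := by group
      rw [h3]
      exact conj_mem_E ((O Q).inv_mem hs) ((E Q).inv_mem he)

theorem indep_of {u w : V} {τ μ : F} (hu : u ≠ 0) (hτ : polar Q u w = τ) (hμ : Q w = μ)
    (ha : ∀ a : F, a * a * Q u - a * τ + μ ≠ 0) : LinearIndependent F ![u, w] := by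
  rw [LinearIndependent.pair_iff]
  intro s t hst
  have ht : t = 0 := by
    by_contra ht
    have h3 : t⁻¹ • (s • u + t • w) = 0 := by rw [hst, smul_zero]
    rw [smul_add, smul_smul, smul_smul, inv_mul_cancel₀ ht, one_smul] at h3
    have h4 : w = (-(t⁻¹ * s)) • u := by
      rw [neg_smul]
      exact eq_neg_of_add_eq_zero_right h3
    apply ha (-(t⁻¹ * s))
    rw [← hτ, ← hμ, h4, polar_smul_right, QuadraticMap.map_smul, polar_self', smul_eq_mul, smul_eq_mul]
    ring
  rw [ht, zero_smul, add_zero] at hst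
  exact ⟨(smul_eq_zero.1 hst).resolve_right hu, ht⟩

/-- the span of a pair with the Gram data of an anisotropic plane is an anisotropic plane -/
theorem aniso_of {u w : V} (hu : Q u ≠ 0) (ha : ∀ a : F, a * a * Q u - a * polar Q u w + Q w ≠ 0) :
    ∀ x ∈ Submodule.span F {u, w}, Q x = 0 → x = 0 := by
  intro x hx hx0
  obtain ⟨a, b, rfl⟩ := Submodule.mem_span_pair.1 hx
  rw [Q_add, QuadraticMap.map_smul, QuadraticMap.map_smul, polar_smul_left, polar_smul_right] at hx0
  simp only [smul_eq_mul] at hx0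
  rcases eq_or_ne b 0 with rfl | hb
  · have h1 : a * a * Q u = 0 := by linear_combination hx0
    have h2 : a = 0 := by
      rcases mul_eq_zero.1 h1 with h | h
      · exact mul_self_eq_zero.1 h
      · exact absurd h hu
    rw [h2, zero_smul, zero_smul, add_zero]
  · exfalso
    apply ha (-(b⁻¹ * a))
    have h1 : (-(b⁻¹ * a)) * (-(b⁻¹ * a)) * Q u - (-(b⁻¹ * a)) * polar Q u w + Q w =
        b⁻¹ * b⁻¹ * (a * a * Q u + b * b * Q w + a * (b * polar Q u w)) := by
      field_simp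
      ring
    rw [h1, hx0, mul_zero]

theorem finrank_pair {u w : V} (h : LinearIndependent F ![u, w]) : finrank F (Submodule.span F {u, w}) = 2 := by
  have h3 := finrank_span_eq_card h
  have h4 : Set.range ![u, w] = {u, w} := by
    ext x
    simp [eq_comm, or_comm]
  rwa [h4, Fintype.card_fin] at h3

/-- **transitivity on the pairs with given Gram data** -/
theorem trans_pairs (hG : Good Q) {u w u' w' : V} (hu : Q u ≠ 0) (h1 : Q u' = Q u) (h2 : polar Q u' w' = polar Q u w)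
    (h3 : Q w' = Q w) (ha : ∀ a : F, a * a * Q u - a * polar Q u w + Q w ≠ 0) : ∃ g ∈ E Q, g u = u' ∧ g w = w' := by
  have hu0 : u ≠ 0 := by rintro rfl; exact hu (QuadraticMap.map_zero Q)
  have hu0' : u' ≠ 0 := by rintro rfl; exact hu (by rw [← h1, QuadraticMap.map_zero])
  have hi := indep_of (Q := Q) hu0 rfl rfl ha
  have ha' : ∀ a : F, a * a * Q u' - a * polar Q u' w' + Q w' ≠ 0 := by rw [h1, h2, h3]; exact ha
  have hi' := indep_of (Q := Q) hu0' rfl rfl ha'
  have hnd : (polarBilin Q).Nondegenerate := by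
    refine ⟨fun x hx => hG.nondeg x fun y => hx y, fun x hx => hG.nondeg x fun y => ?_⟩
    rw [polar_comm]
    exact hx y
  obtain ⟨g, hg, hgx⟩ := WittQuad.extend_family Q hnd 2 ![u, w] ![u', w'] hi hi' (by
      intro i
      fin_cases i
      · exact h1.symm
      · exact h3.symm) (by
      intro i j
      fin_cases i <;> fin_cases j
      · show polar Q u u = polar Q u' u'
        rw [polar_self', polar_self', h1]
      · exact h2.symm
      · show polar Q w u = polar Q w' u'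
        rw [polar_comm, ← h2, polar_comm]
      · show polar Q w w = polar Q w' w'
        rw [polar_self', polar_self', h3])
  obtain ⟨s, -, hs, hsg⟩ := exists_adjust hG (finrank_pair hi') (aniso_of (by rwa [h1]) ha') (g := g) hg
  refine ⟨s * g, hsg, ?_, ?_⟩
  · show s (g u) = u'
    rw [show g u = u' from hgx 0]
    exact hs _ (Submodule.subset_span (by simp))
  · show s (g w) = w'
    rw [show g w = w' from hgx 1]
    exact hs _ (Submodule.subset_span (by simp))

end trans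

section orb

variable {F V : Type*} [Field F] [AddCommGroup V] [Module F V]

theorem finL [Finite V] : Finite (V ≃ₗ[F] V) :=
  Finite.of_injective (fun g : V ≃ₗ[F] V => (g : V → V)) DFunLike.coe_injective

/-- the elements of `Γ` fixing `u` and `w` -/
def Fx (Γ : Subgroup (V ≃ₗ[F] V)) (u w : V) : Subgroup (V ≃ₗ[F] V) where
  carrier := {g | g ∈ Γ ∧ g u = u ∧ g w = w}
  one_mem' := ⟨Γ.one_mem, rfl, rfl⟩
  mul_mem' := fun {a b} ha hb => ⟨Γ.mul_mem ha.1 hb.1, by show a (b u) = u; rw [hb.2.1, ha.2.1], by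
    show a (b w) = w; rw [hb.2.2, ha.2.2]⟩
  inv_mem' := fun {a} ha => ⟨Γ.inv_mem ha.1, by
    show a.symm u = u
    rw [LinearEquiv.symm_apply_eq, ha.2.1], by
    show a.symm w = w
    rw [LinearEquiv.symm_apply_eq, ha.2.2]⟩

theorem mem_Fx {Γ : Subgroup (V ≃ₗ[F] V)} {u w : V} {g : V ≃ₗ[F] V} : g ∈ Fx Γ u w ↔ g ∈ Γ ∧ g u = u ∧ g w = w := Iff.rfl

/-- **orbit counting on pairs** -/
theorem card_orb [Finite V] {Γ : Subgroup (V ≃ₗ[F] V)} (A : Set (V × V)) (hA : ∀ g ∈ Γ, ∀ x ∈ A, (g x.1, g x.2) ∈ A) {u w : V}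
    (hu : (u, w) ∈ A) (ht : ∀ x ∈ A, ∃ g ∈ Γ, g u = x.1 ∧ g w = x.2) :
    Nat.card Γ = Nat.card A * Nat.card (Fx Γ u w) := by
  classical
  have := Fintype.ofFinite A
  set f : Γ → A := fun g => ⟨(g.1 u, g.1 w), hA g.1 g.2 _ hu⟩ with hf
  rw [← Nat.card_congr (Equiv.sigmaFiberEquiv f)]
  have := finL (F := F) (V := V)
  rw [Nat.card_sigma]
  have hfib : ∀ x : A, Nat.card {g // f g = x} = Nat.card (Fx Γ u w) := by
    rintro ⟨x, hx⟩
    obtain ⟨g₀, hg₀, h1, h2⟩ := ht x hx
    refine Nat.card_congr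
      { toFun := fun g => ⟨g₀⁻¹ * g.1.1, Γ.mul_mem (Γ.inv_mem hg₀) g.1.2, ?_, ?_⟩
        invFun := fun g => ⟨⟨g₀ * g.1, Γ.mul_mem hg₀ g.2.1⟩, ?_⟩
        left_inv := fun g => ?_
        right_inv := fun g => ?_ }
    · show g₀.symm (g.1.1 u) = u
      rw [LinearEquiv.symm_apply_eq, h1]
      exact congrArg (fun z : A => z.1.1) g.2
    · show g₀.symm (g.1.1 w) = w
      rw [LinearEquiv.symm_apply_eq, h2]
      exact congrArg (fun z : A => z.1.2) g.2
    · apply Subtype.ext
      show (g₀ (g.1 u), g₀ (g.1 w)) = x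
      rw [g.2.2.1, g.2.2.2, h1, h2]
    · apply Subtype.ext
      apply Subtype.ext
      show g₀ * (g₀⁻¹ * g.1.1) = g.1.1
      rw [mul_inv_cancel_left]
    · apply Subtype.ext
      show g₀⁻¹ * (g₀ * g.1) = g.1
      rw [inv_mul_cancel_left]
  rw [Finset.sum_congr rfl fun x _ => hfib x, Finset.sum_const, smul_eq_mul, Finset.card_univ, ← Nat.card_eq_fintype_card]

end orb

section grp

variable {G : Type*} [Group G] {T : Subgroup G} [T.Normal]
variable {F V : Type*} [Field F] [Finite F] [AddCommGroup V] [Module F V] [FiniteDimensional F V] {Q : QuadraticForm F V}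
variable {e : T ≃* (↥(E Q) ⧸ Subgroup.center ↥(E Q))} {X Y : Subgroup G}

/-- a central element of `E Q` is `1` or `-1` -/
theorem center_cases (hG : Good Q) {g : ↥(E Q)} (hc : g ∈ Subgroup.center ↥(E Q)) :
    g = 1 ∨ ∀ v, (g : V ≃ₗ[F] V) v = -v := by
  have h1 : conjE Q (lg g) = 1 := by
    ext x v
    obtain ⟨v, rfl⟩ := (lg (Q := Q) g).1.surjective v
    rw [coe_conjE, conjLin_apply']
    have h2 := congrArg Subtype.val (Subgroup.mem_center_iff.1 hc x)
    have h3 := congrArg (fun z : V ≃ₗ[F] V => z v) h2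
    exact h3.symm
  obtain ⟨a, -, ha⟩ := exists_scalar_of_conjE hG _ h1
  obtain ⟨x, y, hxy⟩ := hG.exists_hyp
  have h2 : Q (x + y) = 1 := by rw [Q_add, hxy.left, hxy.right, hxy.pair]; ring
  have h3 : Q ((g : V ≃ₗ[F] V) (x + y)) = Q (x + y) := E_le_O g.2 _
  have h4 : (g : V ≃ₗ[F] V) (x + y) = a • (x + y) := ha _
  rw [h4, QuadraticMap.map_smul, h2, smul_eq_mul, mul_one] at h3
  rcases mul_self_eq_one_iff.1 h3 with h5 | h5
  · left
    apply Subtype.ext
    ext v
    have h6 := ha v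
    rw [lg_apply, h5, one_smul] at h6
    exact h6
  · right
    intro v
    have h6 := ha v
    rw [lg_apply, h5, neg_smul, one_smul] at h6
    exact h6

theorem z_le (hG : Good Q) : Nat.card (Subgroup.center ↥(E Q)) ≤ 2 := by
  classical
  have h : Function.Injective (fun g : Subgroup.center ↥(E Q) => decide (g = 1)) := by
    intro g h hgh
    by_cases h1 : g = 1
    · have h2 : h = 1 := by simpa [h1] using hgh.symm
      rw [h1, h2]
    · have h2 : h ≠ 1 := by
        intro h2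
        apply h1
        simpa [h2] using hgh
      have h3 := (center_cases hG g.2).resolve_left fun h => h1 (Subtype.ext h)
      have h4 := (center_cases hG h.2).resolve_left fun h => h2 (Subtype.ext h)
      apply Subtype.ext
      apply Subtype.ext
      ext v
      rw [h3, h4]
  have := Nat.card_le_card_of_injective _ h
  simpa using this

theorem z_dvd (hG : Good Q) : Nat.card (Subgroup.center ↥(E Q)) ∣ 2 := by
  have : Finite V := Module.finite_of_finite F
  have := finL (F := F) (V := V)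
  have h1 := z_le hG
  have h2 : 0 < Nat.card (Subgroup.center ↥(E Q)) := Nat.card_pos
  interval_cases Nat.card (Subgroup.center ↥(E Q)) <;> norm_num

theorem z_two (hG : Good Q) (h2 : (2 : F) = 0) : Nat.card (Subgroup.center ↥(E Q)) = 1 := by
  rw [Subgroup.card_eq_one, eq_bot_iff]
  intro g hg
  rcases center_cases hG hg with h | h
  · exact h
  · rw [Subgroup.mem_bot]
    apply Subtype.ext
    ext v
    rw [h]
    show -v = v
    have h3 : (2 : F) • v = 0 := by rw [h2, zero_smul]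
    rw [two_smul] at h3
    exact neg_eq_of_add_eq_zero_left h3

theorem card_E (e : T ≃* (↥(E Q) ⧸ Subgroup.center ↥(E Q))) : Nat.card (E Q) = Nat.card T * Nat.card (Subgroup.center ↥(E Q)) := by
  rw [Subgroup.card_eq_card_quotient_mul_card_subgroup (Subgroup.center ↥(E Q)), Nat.card_congr e.symm.toEquiv]

theorem card_preE [Finite G] : Nat.card (preE e X) = Nat.card (X.subgroupOf T) * Nat.card (Subgroup.center ↥(E Q)) := by
  have : Finite V := Module.finite_of_finite F
  set K : Subgroup (↥(E Q) ⧸ Subgroup.center ↥(E Q)) := (X.subgroupOf T).map e.toMonoidHom with hK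
  have hcK : Nat.card K = Nat.card (X.subgroupOf T) := Subgroup.card_map_of_injective e.injective
  have h1 : Nat.card (preE e X) = Nat.card (K.comap (QuotientGroup.mk' (Subgroup.center ↥(E Q)))) := by
    refine Nat.card_congr
      { toFun := fun g => ⟨⟨g.1, g.2.1⟩, ?_⟩
        invFun := fun g => ⟨g.1.1, g.1.2, ?_⟩
        left_inv := fun g => rfl
        right_inv := fun g => rfl }
    · obtain ⟨g, hg, hgX⟩ := g
      rw [Subgroup.mem_comap, hK, Subgroup.mem_map]
      exact ⟨_, hgX, e.apply_symm_apply _⟩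
    · have h2 := g.2
      rw [Subgroup.mem_comap] at h2
      obtain ⟨t, ht, h3⟩ := Subgroup.mem_map.1 h2
      have h4 : e.symm (QuotientGroup.mk g.1) = t := by
        rw [MulEquiv.symm_apply_eq]
        exact h3.symm
      show ((e.symm (QuotientGroup.mk g.1) : T) : G) ∈ X
      rw [h4]
      exact ht
  have h2 := (K.comap (QuotientGroup.mk' (Subgroup.center ↥(E Q)))).card_mul_index
  rw [Subgroup.index_comap_of_surjective _ (QuotientGroup.mk'_surjective _), card_E e] at h2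
  have h3 := K.card_mul_index
  rw [Nat.card_congr e.symm.toEquiv] at h3
  have : Finite (↥(E Q) ⧸ Subgroup.center ↥(E Q)) := Finite.of_equiv _ e.toEquiv
  have h4 : 0 < K.index := Nat.pos_of_ne_zero Subgroup.index_ne_zero_of_finite
  rw [h1, ← hcK]
  apply Nat.eq_of_mul_eq_mul_right h4
  rw [h2, ← h3]
  ring

/-- the stabiliser of `P` in `E Q` -/
def Ds (Q : QuadraticForm F V) (P : Submodule F V) : Subgroup (V ≃ₗ[F] V) where
  carrier := {g | g ∈ E Q ∧ P.map (g : V →ₗ[F] V) = P}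
  one_mem' := ⟨(E Q).one_mem, by
    ext x
    simp⟩
  mul_mem' := fun {a b} ha hb => ⟨(E Q).mul_mem ha.1 hb.1, by
    have h1 : ((a * b : V ≃ₗ[F] V) : V →ₗ[F] V) = (a : V →ₗ[F] V) ∘ₗ (b : V →ₗ[F] V) := rfl
    rw [h1, Submodule.map_comp, hb.2, ha.2]⟩
  inv_mem' := fun {a} ha => ⟨(E Q).inv_mem ha.1, by
    have h1 : P.map (a : V →ₗ[F] V) = P := ha.2
    have h2 : (P.map (a : V →ₗ[F] V)).map ((a⁻¹ : V ≃ₗ[F] V) : V →ₗ[F] V) = P := by
      rw [← Submodule.map_comp]
      have h3 : ((a⁻¹ : V ≃ₗ[F] V) : V →ₗ[F] V) ∘ₗ (a : V →ₗ[F] V) = LinearMap.id := by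
        ext x
        exact a.symm_apply_apply x
      rw [h3, Submodule.map_id]
    rwa [h1] at h2⟩

theorem mem_Ds {P : Submodule F V} {g : V ≃ₗ[F] V} (hg : g ∈ E Q) (h : ∀ x ∈ P, g x ∈ P) : g ∈ Ds Q P := by
  refine ⟨hg, Submodule.eq_of_le_of_finrank_eq ?_ (LinearEquiv.finrank_map_eq g P)⟩
  rintro _ ⟨x, hx, rfl⟩
  exact h x hx

/-- **the order equation** -/
theorem main [Finite G] (hG : Good Q) (hf : Fac T X Y) {W : Submodule F V} (hW : ∀ w ∈ W, Q w = 0) {m : ℕ} (hWd : finrank F W = m)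
    (hV : finrank F V = 2 * m) (hm : 2 ≤ m) {P : Submodule F V} (hP : finrank F P = 2) (han : ∀ x ∈ P, Q x = 0 → x = 0)
    (hfix : ∀ g ∈ preE e X, ∀ x ∈ P, g x ∈ P) (hst : ∀ g ∈ E Q, (∀ x ∈ P, g x = x) → g ∈ preE e X) :
    ∃ c s : ℕ, c ∣ 2 * (Nat.card F + 1) ∧ s ∣ Nat.card (Cfsg.Out T) ∧
      c * Nat.card (preE e Y) * s = (((Nat.card F ^ m - 1) * Nat.card F ^ (m - 1)) *
        ((Nat.card F ^ (m - 1) - 1) * Nat.card F ^ (m - 1))) * Nat.card (Subgroup.center ↥(E Q)) := by
  have : Finite V := Module.finite_of_finite F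
  have := finL (F := F) (V := V)
  -- a basis of `P`
  have hPne : P ≠ ⊥ := by rintro rfl; rw [finrank_bot] at hP; omega
  obtain ⟨u, hu, hu0⟩ := (Submodule.ne_bot_iff P).1 hPne
  obtain ⟨w, hw, hwu⟩ : ∃ w ∈ P, w ∉ F ∙ u := by
    by_contra hc
    push Not at hc
    have h3 := Submodule.finrank_mono (show P ≤ F ∙ u from hc)
    rw [finrank_span_singleton hu0] at h3
    omega
  have hi : ∀ s : F, w ≠ s • u := fun s hs => hwu (Submodule.mem_span_singleton.2 ⟨s, hs.symm⟩)
  have hQu : Q u ≠ 0 := fun h => hu0 (han u hu h)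
  have ha : ∀ a : F, a * a * Q u - a * polar Q u w + Q w ≠ 0 := by
    intro a h
    have h1 : Q (w + (-a) • u) = 0 := by
      rw [Q_add, QuadraticMap.map_smul, polar_smul_right, smul_eq_mul, smul_eq_mul, polar_comm Q w u, ← h]
      ring
    have h2 := han _ (P.add_mem hw (P.smul_mem _ hu)) h1
    apply hi a
    rw [neg_smul, ← sub_eq_add_neg, sub_eq_zero] at h2
    exact h2
  have hspan : Submodule.span F {u, w} = P := by
    refine Submodule.eq_of_le_of_finrank_eq ?_ ?_
    · rw [Submodule.span_le]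
      rintro _ (rfl | rfl)
      · exact hu
      · exact hw
    · rw [hP, finrank_pair (indep_of hu0 rfl rfl ha)]
  have hfixall : ∀ g : V ≃ₗ[F] V, g u = u → g w = w → ∀ x ∈ P, g x = x := by
    intro g h1 h2 x hx
    rw [← hspan, Submodule.mem_span_pair] at hx
    obtain ⟨a, b, rfl⟩ := hx
    rw [map_add, map_smul, map_smul, h1, h2]
  -- the orbit of `(u, w)` under `E Q`
  have hE := card_orb (Γ := E Q) {x : V × V | Q x.1 = Q u ∧ polar Q x.1 x.2 = polar Q u w ∧ Q x.2 = Q w}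
    (fun g hg x hx => ⟨(E_le_O hg x.1).trans hx.1, (polar_map (E_le_O hg) x.1 x.2).trans hx.2.1, (E_le_O hg x.2).trans hx.2.2⟩)
    (u := u) (w := w) ⟨rfl, rfl, rfl⟩ (fun x hx => trans_pairs hG hQu hx.1 hx.2.1 hx.2.2 ha)
  have hN := card_pairs hG.nondeg hW hWd hV hm (c := Q u) (τ := polar Q u w) (μ := Q w) hQu ha
  -- the orbit under the stabiliser of `P`
  have hD := card_orb (Γ := Ds Q P) {x : V × V | x.1 ∈ P ∧ x.2 ∈ P ∧ Q x.1 = Q u ∧ polar Q x.1 x.2 = polar Q u w ∧ Q x.2 = Q w}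
    (fun g hg x hx => by
      have h1 : ∀ y ∈ P, g y ∈ P := fun y hy => by
        have h2 : g y ∈ P.map (g : V →ₗ[F] V) := ⟨y, hy, rfl⟩
        rwa [hg.2] at h2
      exact ⟨h1 _ hx.1, h1 _ hx.2.1, (E_le_O hg.1 x.1).trans hx.2.2.1, (polar_map (E_le_O hg.1) x.1 x.2).trans hx.2.2.2.1,
        (E_le_O hg.1 x.2).trans hx.2.2.2.2⟩)
    (u := u) (w := w) ⟨hu, hw, rfl, rfl, rfl⟩ (fun x hx => by
      obtain ⟨g, hg, h1, h2⟩ := trans_pairs hG hQu hx.2.2.1 hx.2.2.2.1 hx.2.2.2.2 ha
      refine ⟨g, mem_Ds hg fun y hy => ?_, h1, h2⟩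
      rw [← hspan, Submodule.mem_span_pair] at hy
      obtain ⟨a, b, rfl⟩ := hy
      rw [map_add, map_smul, map_smul, h1, h2]
      exact P.add_mem (P.smul_mem _ hx.1) (P.smul_mem _ hx.2.1))
  have hn := card_plane hP han hu hu0 hw hi
  have hFx : Fx (Ds Q P) u w = Fx (E Q) u w := by
    ext g
    constructor
    · rintro ⟨h1, h2, h3⟩
      exact ⟨h1.1, h2, h3⟩
    · rintro ⟨h1, h2, h3⟩
      exact ⟨mem_Ds h1 fun x hx => by rw [hfixall g h2 h3 x hx]; exact hx, h2, h3⟩
  set s₀ := Nat.card (Fx (E Q) u w) with hs₀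
  have hs0 : 0 < s₀ := Nat.card_pos
  have hE' : Nat.card (E Q) = (((Nat.card F ^ m - 1) * Nat.card F ^ (m - 1)) *
        ((Nat.card F ^ (m - 1) - 1) * Nat.card F ^ (m - 1))) * s₀ := by
    rw [hE, ← hN]; rfl
  have hD' : Nat.card (Ds Q P) = (Nat.card F + 1) * 2 * s₀ := by
    rw [hD, hFx, ← hn]; rfl
  have h1 : preE e X ≤ Ds Q P := fun g hg => mem_Ds (preE_le_E hg) (hfix g hg)
  have h2 : Fx (E Q) u w ≤ preE e X := fun g hg => hst g hg.1 (hfixall g hg.2.1 hg.2.2)
  obtain ⟨c, hc⟩ := Subgroup.card_dvd_of_le h2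
  have h3 := Subgroup.card_dvd_of_le h1
  rw [hD', hc, ← hs₀, mul_comm s₀ c] at h3
  have hcd : c ∣ 2 * (Nat.card F + 1) := by
    rw [mul_comm 2]
    exact Nat.dvd_of_mul_dvd_mul_right hs0 h3
  obtain ⟨s, -, hs, hse⟩ := hf.card0
  refine ⟨c, s, hcd, hs, ?_⟩
  set z := Nat.card (Subgroup.center ↥(E Q)) with hz
  have h4 : Nat.card (preE e X) = Nat.card (X.subgroupOf T) * z := card_preE
  have h5 : Nat.card (preE e Y) = Nat.card (Y.subgroupOf T) * z := card_preE
  have h6 : Nat.card (E Q) = Nat.card T * z := card_E e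
  apply Nat.eq_of_mul_eq_mul_right hs0
  calc c * Nat.card (preE e Y) * s * s₀ = (s₀ * c) * Nat.card (preE e Y) * s := by ring
    _ = (Nat.card (X.subgroupOf T) * z) * (Nat.card (Y.subgroupOf T) * z) * s := by rw [h5, ← h4, hc]
    _ = (Nat.card (X.subgroupOf T) * Nat.card (Y.subgroupOf T) * s) * z * z := by ring
    _ = Nat.card (E Q) * z := by rw [hse, h6]
    _ = _ := by rw [hE']; ring

end grp

end Cfsg.Agent.H559.D2
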